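import Mathlib
import Cfsg.Prelude.Def_Characters

/-!
helper572 (S2464, `F4(q)`): dimensions of fixed spaces of subgroups in a representation.
-/

set_option autoImplicit false

namespace Cfsg.Agent.H572.FR

open Module

section Fx

variable {G V : Type*} [Group G] [AddCommGroup V] [Module ℂ V] (ρ : Representation ℂ G V)

/-- the fixed space -/
def fx (A : Subgroup G) : Submodule ℂ V where
  carrier := {x | ∀ a ∈ A, ρ a x = x}
  zero_mem' := fun a _ => map_zero _
  add_mem' := fun {x y} hx hy a ha => by rw [map_add, hx a ha, hy a ha]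
  smul_mem' := fun c x hx a ha => by rw [map_smul, hx a ha]

theorem mem_fx {A : Subgroup G} {x : V} : x ∈ fx ρ A ↔ ∀ a ∈ A, ρ a x = x := Iff.rfl

theorem fx_anti {A B : Subgroup G} (h : A ≤ B) : fx ρ B ≤ fx ρ A := fun _ hx a ha => hx a (h ha)

theorem fx_sup (A B : Subgroup G) : fx ρ (A ⊔ B) = fx ρ A ⊓ fx ρ B := by
  apply le_antisymm
  · exact le_inf (fx_anti ρ le_sup_left) (fx_anti ρ le_sup_right)
  · rintro x ⟨hA, hB⟩ a ha
    have h1 : A ⊔ B ≤
        ({ carrier := {g | ρ g x = x}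
           mul_mem' := fun {a b} ha hb => by
             show ρ (a * b) x = x
             rw [map_mul, Module.End.mul_apply, hb, ha]
           one_mem' := by
             show ρ 1 x = x
             rw [map_one, Module.End.one_apply]
           inv_mem' := fun {a} ha => by
             show ρ a⁻¹ x = x
             have ha' : ρ a x = x := ha
             conv_lhs => rw [← ha']
             rw [← Module.End.mul_apply, ← map_mul, inv_mul_cancel, map_one, Module.End.one_apply] } : Subgroup G) :=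
      sup_le hA hB
    exact h1 ha

/-- dimension of the fixed space -/
noncomputable def cd (A : Subgroup G) : ℕ := finrank ℂ (fx ρ A)

theorem fx_conj (g : G) (A : Subgroup G) (x : V) :
    x ∈ fx ρ (A.map (MulAut.conj g).toMonoidHom) ↔ ρ g⁻¹ x ∈ fx ρ A := by
  constructor
  · intro h a ha
    have h1 := h _ ⟨a, ha, rfl⟩
    have h2 : ρ (g * a * g⁻¹) x = x := h1
    rw [← Module.End.mul_apply, ← map_mul]
    have h3 : a * g⁻¹ = g⁻¹ * (g * a * g⁻¹) := by group
    rw [h3, map_mul, Module.End.mul_apply, h2]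
  · rintro h _ ⟨a, ha, rfl⟩
    show ρ (g * a * g⁻¹) x = x
    have h1 := h a ha
    rw [map_mul, map_mul, Module.End.mul_apply, Module.End.mul_apply, h1, ← Module.End.mul_apply, ← map_mul,
      mul_inv_cancel, map_one, Module.End.one_apply]

theorem cd_conj (g : G) (A : Subgroup G) : cd ρ (A.map (MulAut.conj g).toMonoidHom) = cd ρ A := by
  have hgi : ∀ x, ρ g⁻¹ (ρ g x) = x := fun x => by
    rw [← Module.End.mul_apply, ← map_mul, inv_mul_cancel, map_one, Module.End.one_apply]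
  have hgi' : ∀ x, ρ g (ρ g⁻¹ x) = x := fun x => by
    rw [← Module.End.mul_apply, ← map_mul, mul_inv_cancel, map_one, Module.End.one_apply]
  let eg : V ≃ₗ[ℂ] V := LinearEquiv.ofLinearMap (ρ g) (ρ g⁻¹) (LinearMap.ext hgi') (LinearMap.ext hgi)
  have h1 : fx ρ (A.map (MulAut.conj g).toMonoidHom) = (fx ρ A).map (eg : V →ₗ[ℂ] V) := by
    ext x
    rw [fx_conj, Submodule.mem_map]
    constructor
    · intro h
      exact ⟨_, h, hgi' x⟩
    · rintro ⟨y, hy, rfl⟩
      show ρ g⁻¹ (ρ g y) ∈ _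
      rw [hgi]
      exact hy
  unfold cd
  rw [h1]
  exact LinearEquiv.finrank_map_eq eg (fx ρ A)

theorem cd_sub [FiniteDimensional ℂ V] {A B C : Subgroup G} (hA : C ≤ A) (hB : C ≤ B) :
    cd ρ A + cd ρ B ≤ cd ρ C + cd ρ (A ⊔ B) := by
  unfold cd
  rw [fx_sup, ← Submodule.finrank_sup_add_finrank_inf_eq]
  exact Nat.add_le_add_right (Submodule.finrank_mono (sup_le (fx_anti ρ hA) (fx_anti ρ hB))) _

end Fx

section Irr

variable {G : Type*} [Group G] {n : ℕ} (ρ : Representation ℂ G (Fin n → ℂ))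

/-- an irreducible representation with a nonzero fixed vector is trivial -/
theorem cd_top (hirr : ρ.IsIrreducible) (h1 : ρ.character ≠ fun _ => 1) : cd ρ ⊤ = 0 := by
  by_contra h
  apply h1
  have h2 : fx ρ ⊤ ≠ ⊥ := by
    intro h3
    apply h
    unfold cd
    rw [h3, finrank_bot]
  obtain ⟨x, hx, hx0⟩ := Submodule.exists_mem_ne_zero_of_ne_bot h2
  let S : Subrepresentation ρ :=
    { toSubmodule := Submodule.span ℂ {x}
      apply_mem_toSubmodule := by
        intro g v hv
        obtain ⟨c, rfl⟩ := Submodule.mem_span_singleton.1 hv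
        rw [map_smul, hx g trivial]
        exact hv }
  have h3 : S = ⊥ ∨ S = ⊤ := hirr.eq_bot_or_eq_top S
  have h4 : Submodule.span ℂ {x} = ⊤ := by
    rcases h3 with h3 | h3
    · exfalso
      apply hx0
      have h5 : x ∈ S.toSubmodule := Submodule.mem_span_singleton_self x
      rw [h3] at h5
      exact h5
    · have h5 := congrArg Subrepresentation.toSubmodule h3
      exact h5
  funext g
  have h5 : ρ g = 1 := by
    refine LinearMap.ext fun v => ?_
    have h6 : v ∈ Submodule.span ℂ {x} := by rw [h4]; trivial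
    obtain ⟨c, rfl⟩ := Submodule.mem_span_singleton.1 h6
    rw [map_smul, hx g trivial]
    rfl
  have h7 : finrank ℂ (Fin n → ℂ) = 1 := by
    rw [← finrank_top, ← h4, finrank_span_singleton hx0]
  show LinearMap.trace ℂ _ (ρ g) = 1
  rw [h5, LinearMap.trace_one, h7]
  simp

end Irr

/-- the numerical consequence -/
theorem four_le {G V : Type*} [Group G] [AddCommGroup V] [Module ℂ V] [FiniteDimensional ℂ V]
    (ρ : Representation ℂ G V) {E0 E1 E2 E3 F0 : Subgroup G} {s1 n s3 c : G}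
    (h1 : E1 = E0.map (MulAut.conj s1).toMonoidHom) (hn : E0 = E0.map (MulAut.conj n).toMonoidHom)
    (h2 : E2 = E1.map (MulAut.conj n).toMonoidHom) (h3 : E3 = E1.map (MulAut.conj s3).toMonoidHom)
    (hF0 : F0 ≤ E0) (hF1 : F0 ≤ E1) (hc1 : F0.map (MulAut.conj c).toMonoidHom ≤ E1)
    (hc3 : F0.map (MulAut.conj c).toMonoidHom ≤ E3) (ht : E0 ⊔ E1 ⊔ E2 ⊔ E3 = ⊤) (h0 : cd ρ ⊤ = 0) :
    4 * cd ρ E0 ≤ 3 * cd ρ F0 := by
  have a1 : cd ρ E1 = cd ρ E0 := by rw [h1, cd_conj]
  have a3 : cd ρ E3 = cd ρ E0 := by rw [h3, cd_conj, a1]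
  have b1 := cd_sub ρ hF0 hF1
  have e1 : (E0 ⊔ E1).map (MulAut.conj n).toMonoidHom = E0 ⊔ E2 := by
    rw [Subgroup.map_sup, ← hn, ← h2]
  have a4 : cd ρ (E0 ⊔ E2) = cd ρ (E0 ⊔ E1) := by rw [← e1, cd_conj]
  have b2 := cd_sub ρ (A := E0 ⊔ E1) (B := E0 ⊔ E2) (C := E0) le_sup_left le_sup_left
  have e2 : E0 ⊔ E1 ⊔ (E0 ⊔ E2) = E0 ⊔ E1 ⊔ E2 := by
    rw [sup_sup_sup_comm, sup_idem, sup_assoc]
  have b3 := cd_sub ρ (A := E0 ⊔ E1 ⊔ E2) (B := E3) (C := F0.map (MulAut.conj c).toMonoidHom)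
    (hc1.trans (le_sup_right.trans le_sup_left)) hc3
  rw [ht, h0, cd_conj] at b3
  rw [e2] at b2
  omega

end Cfsg.Agent.H572.FR
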