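import Cfsg.Agent.H572.FR.Gauss
import Cfsg.Agent.H572.FR.Fx

/-!
helper572 (S2464, `F4(q)`): Fourier multiplicities of a representation restricted to an elementary abelian subgroup.
-/

set_option autoImplicit false
set_option linter.unusedSectionVars false

namespace Cfsg.Agent.H572.FR

open Module
open Cfsg.Agent.LieClassical Cfsg.Agent.LieClassical.OrthForms Cfsg.Agent.LieClassical.OrthCore
  Cfsg.Agent.LieClassical.OrthTrans

section Range

variable {G V : Type*} [Group G] [AddCommGroup V] [Module ℂ V] [FiniteDimensional ℂ V] (ρ : Representation ℂ G V)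

theorem cd_range {H : Type*} [Group H] [Fintype H] (θ : H →* G) :
    (cd ρ θ.range : ℂ) = (Fintype.card H : ℂ)⁻¹ * ∑ h : H, ρ.character (θ h) := by
  have : Invertible (Nat.card H : ℂ) := invertibleOfNonzero (Nat.cast_ne_zero.2 Nat.card_pos.ne')
  have h1 := Representation.card_inv_mul_sum_char_eq_finrank (ρ.comp θ)
  have h2 : fx ρ θ.range = Representation.invariants (ρ.comp θ) := by
    ext x
    rw [mem_fx, Representation.mem_invariants]
    constructor
    · intro h a
      exact h _ ⟨a, rfl⟩
    · rintro h _ ⟨a, rfl⟩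
      exact h a
  unfold cd
  rw [h2, ← h1, Nat.card_eq_fintype_card]
  rfl

end Range

section Tw

variable {K W : Type*} [Field K] [AddCommGroup W] [Module K W] {Q : QuadraticForm K W}
  {G V : Type*} [Group G] [AddCommGroup V] [Module ℂ V] (ρ : Representation ℂ G V)
  (e : Multiplicative W →* G) (ψ : AddChar K ℂ)

/-- the twisted representation -/
noncomputable def tw (Q : QuadraticForm K W) (u : W) : Representation ℂ (Multiplicative W) V where
  toFun w := ψ (-(QuadraticMap.polarBilin Q u w.toAdd)) • ρ (e w)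
  map_one' := by
    rw [toAdd_one, map_zero, neg_zero, AddChar.map_zero_eq_one, one_smul, map_one, map_one]
  map_mul' a b := by
    rw [toAdd_mul, map_add, neg_add, AddChar.map_add_eq_mul, map_mul, map_mul, smul_mul_smul_comm]

/-- the multiplicity -/
noncomputable def mu (Q : QuadraticForm K W) (u : W) : ℕ := finrank ℂ (Representation.invariants (tw ρ e ψ Q u))

variable [FiniteDimensional ℂ V] [Fintype W]

theorem mu_eq (u : W) : (mu ρ e ψ Q u : ℂ) =
    (Fintype.card W : ℂ)⁻¹ * ∑ w : W, ψ (-(QuadraticMap.polar Q u w)) * ρ.character (e (Multiplicative.ofAdd w)) := by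
  have : Invertible (Nat.card (Multiplicative W) : ℂ) := invertibleOfNonzero (Nat.cast_ne_zero.2 Nat.card_pos.ne')
  have h1 := Representation.card_inv_mul_sum_char_eq_finrank (tw ρ e ψ Q u)
  have h2 : Nat.card (Multiplicative W) = Fintype.card W := by
    rw [Nat.card_eq_fintype_card]
    exact Fintype.card_multiplicative W
  rw [h2] at h1
  unfold mu
  rw [← h1]
  congr 1
  rw [← Equiv.sum_comp Multiplicative.ofAdd]
  refine Finset.sum_congr rfl fun w _ => ?_
  show LinearMap.trace ℂ V (ψ (-(QuadraticMap.polarBilin Q u w)) • ρ (e (Multiplicative.ofAdd w))) = _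
  rw [map_smul, smul_eq_mul]
  rfl

variable {ψ} [Fintype K]

/-- Fourier inversion -/
theorem chi_eq (hψ : ψ.IsPrimitive) (hQ : Nondeg Q) (v : W) :
    ρ.character (e (Multiplicative.ofAdd v)) = ∑ u : W, (mu ρ e ψ Q u : ℂ) * ψ (QuadraticMap.polar Q u v) := by
  classical
  have hW : (Fintype.card W : ℂ) ≠ 0 := Nat.cast_ne_zero.2 Fintype.card_ne_zero
  have h1 : ∀ u : W, (mu ρ e ψ Q u : ℂ) * ψ (QuadraticMap.polar Q u v) =
      ∑ w : W, (Fintype.card W : ℂ)⁻¹ * ρ.character (e (Multiplicative.ofAdd w)) *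
        ψ ((QuadraticMap.polarBilin Q (v - w)) u) := by
    intro u
    rw [mu_eq, Finset.mul_sum, Finset.sum_mul]
    refine Finset.sum_congr rfl fun w _ => ?_
    have h2 : ψ ((QuadraticMap.polarBilin Q (v - w)) u) =
        ψ (-(QuadraticMap.polar Q u w)) * ψ (QuadraticMap.polar Q u v) := by
      rw [← AddChar.map_add_eq_mul]
      congr 1
      rw [QuadraticMap.polarBilin_apply_apply, QuadraticMap.polar_comm, QuadraticMap.polar_sub_right]
      ring
    rw [h2]
    ring
  simp only [h1]
  rw [Finset.sum_comm]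
  simp only [← Finset.mul_sum]
  rw [Finset.sum_eq_single v]
  · rw [sum_lin hψ, if_pos]
    · field_simp
    · rw [sub_self, map_zero]
  · intro w _ hw
    rw [sum_lin hψ, if_neg, mul_zero]
    intro h2
    apply hw
    have h3 : v - w = 0 := hQ _ fun y => LinearMap.congr_fun h2 y
    exact (sub_eq_zero.1 h3).symm
  · intro h
    exact absurd (Finset.mem_univ _) h

/-- the degree -/
theorem deg_eq (hψ : ψ.IsPrimitive) (hQ : Nondeg Q) : ρ.character 1 = ∑ u : W, (mu ρ e ψ Q u : ℂ) := by
  have h := chi_eq ρ e hψ hQ 0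
  rw [ofAdd_zero, map_one] at h
  rw [h]
  refine Finset.sum_congr rfl fun u _ => ?_
  rw [QuadraticMap.polar_zero_right, AddChar.map_zero_eq_one, mul_one]

/-- the homomorphism of a subspace -/
def eF (F : Submodule K W) : Multiplicative F →* G :=
  e.comp (AddMonoidHom.toMultiplicative (F.subtype : F →ₗ[K] W).toAddMonoidHom)

theorem eF_apply (F : Submodule K W) (w : F) : eF e F (Multiplicative.ofAdd w) = e (Multiplicative.ofAdd (w : W)) := rfl

/-- fixed space of a subspace -/
theorem cd_eF (hψ : ψ.IsPrimitive) (hQ : Nondeg Q) (F : Submodule K W)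
    [DecidablePred fun u : W => ∀ w ∈ F, QuadraticMap.polar Q u w = 0] :
    cd ρ (eF e F).range = ∑ u : W with ∀ w ∈ F, QuadraticMap.polar Q u w = 0, mu ρ e ψ Q u := by
  classical
  have : Fintype F := Fintype.ofFinite F
  have hF : (Fintype.card F : ℂ) ≠ 0 := Nat.cast_ne_zero.2 Fintype.card_ne_zero
  have h1 := cd_range ρ (eF e F)
  have h2 : Fintype.card (Multiplicative F) = Fintype.card F := Fintype.card_multiplicative F
  rw [h2] at h1
  have h3 : ∑ h : Multiplicative F, ρ.character (eF e F h) =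
      ∑ u : W, (mu ρ e ψ Q u : ℂ) * ∑ w : F, ψ (((QuadraticMap.polarBilin Q u).comp F.subtype) w) := by
    have h4 : ∑ h : Multiplicative F, ρ.character (eF e F h) =
        ∑ w : F, ρ.character (e (Multiplicative.ofAdd (w : W))) :=
      (Equiv.sum_comp Multiplicative.ofAdd (fun h : Multiplicative F => ρ.character (eF e F h))).symm
    rw [h4]
    simp only [chi_eq ρ e hψ hQ]
    rw [Finset.sum_comm]
    simp only [Finset.mul_sum]
    rfl
  rw [h3] at h1
  have h5 : ∀ u : W, ∑ w : F, ψ (((QuadraticMap.polarBilin Q u).comp F.subtype) w) =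
      if ∀ w ∈ F, QuadraticMap.polar Q u w = 0 then (Fintype.card F : ℂ) else 0 := by
    intro u
    rw [sum_lin hψ]
    refine if_congr ?_ rfl rfl
    constructor
    · intro h w hw
      exact LinearMap.congr_fun h ⟨w, hw⟩
    · intro h
      ext w
      exact h w w.2
  simp only [h5] at h1
  have h6 : (cd ρ (eF e F).range : ℂ) =
      ((∑ u : W with ∀ w ∈ F, QuadraticMap.polar Q u w = 0, mu ρ e ψ Q u : ℕ) : ℂ) := by
    rw [h1, Finset.mul_sum, Nat.cast_sum, Finset.sum_filter]
    refine Finset.sum_congr rfl fun u _ => ?_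
    split_ifs
    · field_simp
    · ring
  exact_mod_cast h6

/-- the multiplicities are invariant -/
theorem mu_inv {h : W ≃ₗ[K] W} (hh : h ∈ O Q) {g : G}
    (hg : ∀ w : W, g * e (Multiplicative.ofAdd w) * g⁻¹ = e (Multiplicative.ofAdd (h w))) (u : W) :
    mu ρ e ψ Q (h u) = mu ρ e ψ Q u := by
  have h1 : (mu ρ e ψ Q (h u) : ℂ) = (mu ρ e ψ Q u : ℂ) := by
    rw [mu_eq, mu_eq]
    congr 1
    rw [← Equiv.sum_comp h.toEquiv]
    refine Finset.sum_congr rfl fun w _ => ?_
    show ψ (-(QuadraticMap.polar Q (h u) (h w))) * ρ.character (e (Multiplicative.ofAdd (h w))) = _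
    rw [polar_map hh, ← hg, ρ.char_conj]
  exact_mod_cast h1

end Tw

end Cfsg.Agent.H572.FR
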