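import Mathlib
import Cfsg.Agent.LieClassical.OrthTrans
import Cfsg.Agent.LieClassical.OrthForms
import Cfsg.Agent.LieClassical.OrthFinite

/-!
helper572 (S2464, `F4(q)`): Gauss sums of a nondegenerate quadratic form.
-/

set_option autoImplicit false

namespace Cfsg.Agent.H572.FR

open Module
open Cfsg.Agent.LieClassical Cfsg.Agent.LieClassical.OrthForms Cfsg.Agent.LieClassical.OrthCore
  Cfsg.Agent.LieClassical.OrthTrans

section Lin

variable {K : Type*} [Field K] {ψ : AddChar K ℂ}

/-- the sum of an additive character over the values of a linear form -/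
theorem sum_lin (hψ : ψ.IsPrimitive) {A : Type*} [AddCommGroup A] [Module K A] [Fintype A] (L : A →ₗ[K] K)
    [Decidable (L = 0)] :
    ∑ a : A, ψ (L a) = if L = 0 then (Fintype.card A : ℂ) else 0 := by
  classical
  split_ifs with h
  · subst h
    simp
  · have h1 : ∃ a, L a ≠ 0 := by
      by_contra h2
      push Not at h2
      exact h (LinearMap.ext h2)
    obtain ⟨a0, ha0⟩ := h1
    have h2 := hψ ha0
    obtain ⟨c, hc⟩ := (AddChar.ne_one_iff).1 h2
    rw [AddChar.mulShift_apply] at hc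
    set a1 : A := c • a0 with ha1
    have h3 : ψ (L a1) ≠ 1 := by
      rw [ha1, map_smul, smul_eq_mul, mul_comm]
      exact hc
    have h4 : ∑ a : A, ψ (L (a + a1)) = ∑ a : A, ψ (L a) := Equiv.sum_comp (Equiv.addRight a1) (fun a => ψ (L a))
    have h5 : ∑ a : A, ψ (L (a + a1)) = (∑ a : A, ψ (L a)) * ψ (L a1) := by
      rw [Finset.sum_mul]
      refine Finset.sum_congr rfl fun a _ => ?_
      rw [map_add, AddChar.map_add_eq_mul]
    rw [h5] at h4
    have h6 : (∑ a : A, ψ (L a)) * (ψ (L a1) - 1) = 0 := by linear_combination h4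
    exact (mul_eq_zero.1 h6).resolve_right (sub_ne_zero.2 h3)

/-- the sum over the field -/
theorem sum_mul' [Fintype K] (hψ : ψ.IsPrimitive) (x : K) [Decidable (x = 0)] :
    ∑ s : K, ψ (s * x) = if x = 0 then (Fintype.card K : ℂ) else 0 := by
  classical
  have h := sum_lin hψ (LinearMap.mulRight K x)
  have h1 : (LinearMap.mulRight K x = 0) ↔ x = 0 := by
    constructor
    · intro h2
      have := LinearMap.congr_fun h2 1
      simpa using this
    · rintro rfl
      ext
      simp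
  simp only [LinearMap.mulRight_apply, h1] at h
  rw [h]
  
theorem norm_psi [Finite K] (x : K) : ‖ψ x‖ = 1 := by
  exact AddChar.norm_apply ψ x

end Lin

section Quad

variable {K V : Type*} [Field K] [Fintype K] [AddCommGroup V] [Module K V] [Fintype V] {Q : QuadraticForm K V}
  {ψ : AddChar K ℂ}

/-- Gauss sum -/
theorem gauss_sq (hψ : ψ.IsPrimitive) (hQ : Nondeg Q) {s : K} (hs : s ≠ 0) (v : V) :
    ‖∑ u : V, ψ (s * Q u + QuadraticMap.polar Q u v)‖ ^ 2 = Fintype.card V := by
  classical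
  set f : V → K := fun u => s * Q u + QuadraticMap.polar Q u v with hf
  have h1 : ((‖∑ u : V, ψ (f u)‖ ^ 2 : ℝ) : ℂ) = (Fintype.card V : ℂ) := by
    have e1 : ((‖∑ u : V, ψ (f u)‖ ^ 2 : ℝ) : ℂ) = (∑ u : V, ψ (f u)) * (starRingEnd ℂ) (∑ u : V, ψ (f u)) := by
      rw [Complex.mul_conj, Complex.normSq_eq_norm_sq]
    rw [e1, map_sum]
    have e2 : ∀ u, (starRingEnd ℂ) (ψ (f u)) = ψ (-(f u)) := fun u => (AddChar.map_neg_eq_conj ψ (f u)).symm
    simp only [e2]
    rw [Finset.sum_mul_sum, Finset.sum_comm]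
    have e3 : ∀ u' : V, ∑ u : V, ψ (f u) * ψ (-(f u')) = ∑ h : V, ψ (f (u' + h)) * ψ (-(f u')) := fun u' =>
      (Equiv.sum_comp (Equiv.addLeft u') (fun u => ψ (f u) * ψ (-(f u')))).symm
    simp only [e3]
    rw [Finset.sum_comm]
    have e4 : ∀ h : V, ∑ u' : V, ψ (f (u' + h)) * ψ (-(f u')) =
        ψ (f h) * ∑ u' : V, ψ ((s • (QuadraticMap.polarBilin Q h)) u') := by
      intro h
      rw [Finset.mul_sum]
      refine Finset.sum_congr rfl fun u' _ => ?_
      rw [← AddChar.map_add_eq_mul, ← AddChar.map_add_eq_mul]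
      congr 1
      simp only [hf, LinearMap.smul_apply, QuadraticMap.polarBilin_apply_apply, smul_eq_mul]
      rw [Q_add, QuadraticMap.polar_add_left, QuadraticMap.polar_comm Q h u']
      ring
    simp only [e4]
    rw [Finset.sum_eq_single 0]
    · rw [sum_lin hψ, if_pos]
      · simp [hf]
      · ext
        simp
    · intro h _ hh
      rw [sum_lin hψ, if_neg, mul_zero]
      intro h2
      apply hh
      apply hQ
      intro y
      have := LinearMap.congr_fun h2 y
      simp only [LinearMap.smul_apply, QuadraticMap.polarBilin_apply_apply, smul_eq_mul, LinearMap.zero_apply,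
        mul_eq_zero, hs, false_or] at this
      exact this
    · intro h
      exact absurd (Finset.mem_univ _) h
  exact_mod_cast h1

/-- the level sums -/
theorem level_sum [DecidableEq K] (hψ : ψ.IsPrimitive) (c : K) (v : V) :
    (Fintype.card K : ℂ) * ∑ u : V with Q u = c, ψ (QuadraticMap.polar Q u v) =
      ∑ s : K, ψ (-(s * c)) * ∑ u : V, ψ (s * Q u + QuadraticMap.polar Q u v) := by
  classical
  have h1 : ∀ s : K, ψ (-(s * c)) * ∑ u : V, ψ (s * Q u + QuadraticMap.polar Q u v) =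
      ∑ u : V, ψ (s * (Q u - c)) * ψ (QuadraticMap.polar Q u v) := by
    intro s
    rw [Finset.mul_sum]
    refine Finset.sum_congr rfl fun u _ => ?_
    rw [← AddChar.map_add_eq_mul, ← AddChar.map_add_eq_mul]
    congr 1
    ring
  simp only [h1]
  rw [Finset.sum_comm]
  simp only [← Finset.sum_mul, sum_mul' hψ, sub_eq_zero]
  rw [Finset.sum_filter, Finset.mul_sum]
  refine Finset.sum_congr rfl fun u _ => ?_
  split_ifs <;> ring

theorem gauss_le (hψ : ψ.IsPrimitive) (hQ : Nondeg Q) {s : K} (hs : s ≠ 0) (v : V) {b : ℝ} (hb : 0 ≤ b)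
    (h : (Fintype.card V : ℝ) ≤ b ^ 2) : ‖∑ u : V, ψ (s * Q u + QuadraticMap.polar Q u v)‖ ≤ b := by
  refine le_of_sq_le_sq ?_ hb
  rw [gauss_sq hψ hQ hs v]
  exact h

theorem sum_ne_le [DecidableEq K] (hψ : ψ.IsPrimitive) (hQ : Nondeg Q) (c : K) (v : V) {b : ℝ} (hb : 0 ≤ b)
    (h : (Fintype.card V : ℝ) ≤ b ^ 2) :
    ‖∑ s ∈ Finset.univ.erase (0 : K), ψ (-(s * c)) * ∑ u : V, ψ (s * Q u + QuadraticMap.polar Q u v)‖ ≤
      ((Fintype.card K : ℝ) - 1) * b := by
  classical
  refine (norm_sum_le _ _).trans ?_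
  have h1 : ∀ s ∈ Finset.univ.erase (0 : K),
      ‖ψ (-(s * c)) * ∑ u : V, ψ (s * Q u + QuadraticMap.polar Q u v)‖ ≤ b := by
    intro s hs
    rw [norm_mul, norm_psi, one_mul]
    exact gauss_le hψ hQ (Finset.ne_of_mem_erase hs) v hb h
  refine (Finset.sum_le_card_nsmul _ _ _ h1).trans ?_
  rw [Finset.card_erase_of_mem (Finset.mem_univ _), Finset.card_univ, nsmul_eq_mul,
    Nat.cast_sub Fintype.card_pos]
  simp

/-- level sums for `v ≠ 0` -/
theorem level_le [DecidableEq K] (hψ : ψ.IsPrimitive) (hQ : Nondeg Q) (c : K) {v : V} (hv : v ≠ 0) {b : ℝ}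
    (hb : 0 ≤ b) (h : (Fintype.card V : ℝ) ≤ b ^ 2) :
    (Fintype.card K : ℝ) * ‖∑ u : V with Q u = c, ψ (QuadraticMap.polar Q u v)‖ ≤
      ((Fintype.card K : ℝ) - 1) * b := by
  classical
  have h1 := level_sum (Q := Q) hψ c v
  rw [← Finset.add_sum_erase _ _ (Finset.mem_univ (0 : K))] at h1
  have h2 : ∑ u : V, ψ (0 * Q u + QuadraticMap.polar Q u v) = 0 := by
    have h3 : ∀ u, (0 : K) * Q u + QuadraticMap.polar Q u v = (QuadraticMap.polarBilin Q v) u := by
      intro u
      rw [zero_mul, zero_add, QuadraticMap.polar_comm]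
      rfl
    simp only [h3]
    rw [sum_lin hψ, if_neg]
    intro h4
    apply hv
    apply hQ
    intro y
    exact LinearMap.congr_fun h4 y
  rw [h2, mul_zero, zero_add] at h1
  have h3 := sum_ne_le hψ hQ c v hb h
  rw [← h1, norm_mul, Complex.norm_natCast] at h3
  exact h3

/-- lower bound for the number of vectors of given norm -/
theorem card_level_ge [DecidableEq K] (hψ : ψ.IsPrimitive) (hQ : Nondeg Q) (c : K) {b : ℝ}
    (hb : 0 ≤ b) (h : (Fintype.card V : ℝ) ≤ b ^ 2) :
    (Fintype.card V : ℝ) - ((Fintype.card K : ℝ) - 1) * b ≤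
      (Fintype.card K : ℝ) * (Finset.univ.filter (fun u : V => Q u = c)).card := by
  classical
  have h1 := level_sum (Q := Q) hψ c 0
  rw [← Finset.add_sum_erase _ _ (Finset.mem_univ (0 : K))] at h1
  have h2 : ψ (-(0 * c)) * ∑ u : V, ψ (0 * Q u + QuadraticMap.polar Q u 0) = (Fintype.card V : ℂ) := by
    simp
  have h4 : ∑ u : V with Q u = c, ψ (QuadraticMap.polar Q u 0) =
      ((Finset.univ.filter (fun u : V => Q u = c)).card : ℂ) := by
    simp
  rw [h2, h4] at h1
  have h3 := sum_ne_le hψ hQ c 0 hb h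
  set z := ∑ s ∈ Finset.univ.erase (0 : K), ψ (-(s * c)) * ∑ u : V, ψ (s * Q u + QuadraticMap.polar Q u 0) with hz
  have h5 : z = (((Fintype.card K : ℝ) * (Finset.univ.filter (fun u : V => Q u = c)).card - Fintype.card V : ℝ) : ℂ) := by
    push_cast
    linear_combination -h1
  rw [h5, Complex.norm_real, Real.norm_eq_abs] at h3
  have := (abs_le.1 h3).1
  linarith

end Quad

end Cfsg.Agent.H572.FR
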