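import Cfsg.Agent.H572.FR.Four

/-!
helper572 (S2464, `F4(q)`, `q` odd, `q ≥ 5`): the ratio bound for the elements of the seven dimensional abelian
subgroup `E₀`: abstract form.
-/

set_option autoImplicit false
set_option linter.unusedSectionVars false

namespace Cfsg.Agent.H572.FR

open Module
open Cfsg.Agent.LieClassical Cfsg.Agent.LieClassical.OrthForms Cfsg.Agent.LieClassical.OrthCore
  Cfsg.Agent.LieClassical.OrthTrans Cfsg.Agent.LieClassical.OrthFinite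

/-- the seven dimensional space -/
abbrev W7 (K : Type*) := Unit ⊕ (Fin 3 ⊕ Fin 3) → K

/-- the totally singular plane -/
def FF (K : Type*) [Field K] : Submodule K (W7 K) where
  carrier := {w | w (.inl ()) = 0 ∧ ∀ j, w (.inr (.inr j)) = 0}
  zero_mem' := ⟨rfl, fun _ => rfl⟩
  add_mem' := fun {x y} hx hy => ⟨by rw [Pi.add_apply, hx.1, hy.1, add_zero], fun j => by
    rw [Pi.add_apply, hx.2, hy.2, add_zero]⟩
  smul_mem' := fun c x hx => ⟨by rw [Pi.smul_apply, hx.1, smul_zero], fun j => by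
    rw [Pi.smul_apply, hx.2, smul_zero]⟩

theorem mem_FF {K : Type*} [Field K] {w : W7 K} : w ∈ FF K ↔ w (.inl ()) = 0 ∧ ∀ j, w (.inr (.inr j)) = 0 := Iff.rfl

theorem perp_FF {K : Type*} [Field K] {u : W7 K} (h : ∀ w ∈ FF K, QuadraticMap.polar (oddForm 3 K) u w = 0) (j : Fin 3) :
    u (.inr (.inr j)) = 0 := by
  classical
  have h1 := h (Pi.single (.inr (.inl j)) 1) ⟨by simp, fun i => by simp⟩
  rw [polar_oddForm] at h1
  simpa [Pi.single_apply] using h1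

theorem card_W7 (K : Type*) [Fintype K] : Fintype.card (W7 K) = Fintype.card K ^ 7 := by
  rw [Fintype.card_fun]
  simp

theorem card_perp_le {K : Type*} [Field K] [Fintype K] [DecidableEq K] (c : K) :
    ((Finset.univ.filter (fun u : W7 K => (∀ j, u (.inr (.inr j)) = 0) ∧ oddForm 3 K u = c)).card) ≤
      2 * Fintype.card K ^ 3 := by
  classical
  have h1 : (Finset.univ.filter (fun x : K => x ^ 2 = c)).card ≤ 2 := by
    by_contra h
    push Not at h
    obtain ⟨a, b, d, ha, hb, hd, hab, had, hbd⟩ := Finset.two_lt_card_iff.1 h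
    simp only [Finset.mem_filter, Finset.mem_univ, true_and] at ha hb hd
    have e1 : (a - b) * (a + b) = 0 := by linear_combination ha - hb
    have e2 : (a - d) * (a + d) = 0 := by linear_combination ha - hd
    have e3 := (mul_eq_zero.1 e1).resolve_left (sub_ne_zero.2 hab)
    have e4 := (mul_eq_zero.1 e2).resolve_left (sub_ne_zero.2 had)
    exact hbd (by linear_combination e3 - e4)
  have h2 : (Finset.univ.filter (fun u : W7 K => (∀ j, u (.inr (.inr j)) = 0) ∧ oddForm 3 K u = c)).card ≤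
      ((Finset.univ.filter (fun x : K => x ^ 2 = c)) ×ˢ (Finset.univ : Finset (Fin 3 → K))).card := by
    refine Finset.card_le_card_of_injOn (fun u => (u (.inl ()), fun j => u (.inr (.inl j)))) ?_ ?_
    · intro u hu
      simp only [Finset.coe_filter, Finset.mem_univ, true_and, Set.mem_ofPred_eq] at hu
      simp only [Finset.coe_product, Finset.coe_filter, Finset.mem_univ, true_and, Finset.coe_univ, Set.mem_prod,
        Set.mem_ofPred_eq, Set.mem_univ, and_true]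
      have h3 := hu.2
      rw [coe_oddForm, quadFormOdd_apply] at h3
      rw [← h3]
      simp [hu.1]
    · intro u hu v hv huv
      simp only [Finset.coe_filter, Finset.mem_univ, true_and, Set.mem_ofPred_eq] at hu hv
      simp only [Prod.mk.injEq] at huv
      funext i
      rcases i with i | i | i
      · exact huv.1
      · exact congrFun huv.2 i
      · rw [hu.1, hv.1]
  refine h2.trans ?_
  rw [Finset.card_product, Finset.card_univ, Fintype.card_fun, Fintype.card_fin]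
  exact Nat.mul_le_mul_right _ h1

section Split

variable {K W : Type*} [Field K] [Fintype K] [DecidableEq K] {R : Type*} [CommSemiring R] {q : W → K} {m : W → ℕ}
  {M : K → ℕ}

theorem split_sum (s : Finset W) (hM : ∀ u ∈ s, m u = M (q u)) (g : W → R) :
    ∑ u ∈ s, (m u : R) * g u = ∑ c : K, (M c : R) * ∑ u ∈ s with q u = c, g u := by
  rw [← Finset.sum_fiberwise s q]
  refine Finset.sum_congr rfl fun c _ => ?_
  rw [Finset.mul_sum]
  refine Finset.sum_congr rfl fun u hu => ?_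
  rw [Finset.mem_filter] at hu
  rw [hM u hu.1, hu.2]

end Split

section Num

variable {K : Type*} [Field K] [Fintype K] {ψ : AddChar K ℂ}

/-- `q ≥ 5` -/
theorem five_aux {q x d : ℝ} (hq5 : 5 ≤ q) (_hx : 0 ≤ x) (hd : 0 ≤ d)
    (h : x * (q ^ 6 - (q - 7) * q ^ 3 - 1) ≤ ((q + 5) * q ^ 3 + 1) * d) : x ≤ 2 / 25 * d := by
  have h6 : (125 : ℝ) ≤ q ^ 3 := by
    calc (125 : ℝ) = 5 ^ 3 := by norm_num
      _ ≤ q ^ 3 := pow_le_pow_left₀ (by norm_num) hq5 3
  have h8 : 4 ≤ 2 * q ^ 3 - 27 * q - 111 := by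
    nlinarith [mul_nonneg (sub_nonneg.2 hq5) (sub_nonneg.2 hq5), sq_nonneg (q - 5), sq_nonneg q]
  have h9 : 25 * ((q + 5) * q ^ 3 + 1) ≤ 2 * (q ^ 6 - (q - 7) * q ^ 3 - 1) := by nlinarith
  have h10 : 0 < q ^ 6 - (q - 7) * q ^ 3 - 1 := by nlinarith
  have h11 := mul_le_mul_of_nonneg_right h9 hd
  have h12 : x * (q ^ 6 - (q - 7) * q ^ 3 - 1) ≤ (2 / 25 * d) * (q ^ 6 - (q - 7) * q ^ 3 - 1) := by linarith
  exact le_of_mul_le_mul_right h12 h10

/-- `q ≥ 7` -/
theorem seven_aux {q x d : ℝ} (hq7 : 7 ≤ q) (_hx : 0 ≤ x) (hd : 0 ≤ d)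
    (h : x * (q ^ 6 - (q - 7) * q ^ 3 - 1) ≤ ((q + 5) * q ^ 3 + 1) * d) : x ≤ 7 / 200 * d := by
  have h6 : (343 : ℝ) ≤ q ^ 3 := by
    calc (343 : ℝ) = 7 ^ 3 := by norm_num
      _ ≤ q ^ 3 := pow_le_pow_left₀ (by norm_num) hq7 3
  have h8 : 1 ≤ 7 * q ^ 3 - 207 * q - 951 := by
    nlinarith [mul_nonneg (sub_nonneg.2 hq7) (sub_nonneg.2 hq7), sq_nonneg (q - 7), sq_nonneg q]
  have h9 : 200 * ((q + 5) * q ^ 3 + 1) ≤ 7 * (q ^ 6 - (q - 7) * q ^ 3 - 1) := by nlinarith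
  have h10 : 0 < q ^ 6 - (q - 7) * q ^ 3 - 1 := by nlinarith
  have h11 := mul_le_mul_of_nonneg_right h9 hd
  have h12 : x * (q ^ 6 - (q - 7) * q ^ 3 - 1) ≤ (7 / 200 * d) * (q ^ 6 - (q - 7) * q ^ 3 - 1) := by linarith
  exact le_of_mul_le_mul_right h12 h10

/-- the numerical core, general form -/
theorem num_core_gen (h2 : (2 : K) ≠ 0) (h5 : 3 ≤ Fintype.card K) (hψ : ψ.IsPrimitive) {m : W7 K → ℕ}
    (htr : ∀ u v : W7 K, u ≠ 0 → v ≠ 0 → oddForm 3 K u = oddForm 3 K v → m u = m v) {f : ℕ}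
    {D : Finset (W7 K)} (hD : ∀ u ∈ D, ∀ j, u (.inr (.inr j)) = 0) (hf : f = ∑ u ∈ D, m u)
    (h4 : 4 * m 0 ≤ 3 * f) {v : W7 K} (hv : v ≠ 0) :
    ‖∑ u : W7 K, (m u : ℂ) * ψ (QuadraticMap.polar (oddForm 3 K) u v)‖ *
        ((Fintype.card K : ℝ) ^ 6 - ((Fintype.card K : ℝ) - 7) * (Fintype.card K : ℝ) ^ 3 - 1) ≤
      (((Fintype.card K : ℝ) + 5) * (Fintype.card K : ℝ) ^ 3 + 1) * ∑ u : W7 K, (m u : ℝ) ∧
    (m 0 : ℝ) * ((Fintype.card K : ℝ) ^ 6 - ((Fintype.card K : ℝ) - 7) * (Fintype.card K : ℝ) ^ 3 - 1) ≤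
      6 * (Fintype.card K : ℝ) ^ 3 * ∑ u : W7 K, (m u : ℝ) := by
  classical
  set Q := oddForm 3 K with hQdef
  have hQ : Nondeg Q := nondeg_oddForm 3 K h2
  set q : ℝ := (Fintype.card K : ℝ) with hq
  have hq5 : (3 : ℝ) ≤ q := by
    rw [hq]
    exact_mod_cast h5
  -- the function M
  let M : K → ℕ := fun c => if h : ∃ u : W7 K, u ≠ 0 ∧ Q u = c then m h.choose else 0
  have hM : ∀ u : W7 K, u ≠ 0 → m u = M (Q u) := by
    intro u hu
    have h : ∃ u' : W7 K, u' ≠ 0 ∧ Q u' = Q u := ⟨u, hu, rfl⟩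
    show m u = if h : ∃ u' : W7 K, u' ≠ 0 ∧ Q u' = Q u then m h.choose else 0
    rw [dif_pos h]
    exact htr _ _ hu h.choose_spec.1 h.choose_spec.2.symm
  set S : ℝ := ∑ c : K, (M c : ℝ) with hS
  have hMn : ∀ c, (0 : ℝ) ≤ (M c : ℝ) := fun c => Nat.cast_nonneg _
  have hcardW : (Fintype.card (W7 K) : ℝ) = q ^ 7 := by
    rw [card_W7]
    push_cast
    rfl
  have hb : (Fintype.card (W7 K) : ℝ) ≤ (q ^ 4) ^ 2 := by
    rw [hcardW, ← pow_mul]
    exact pow_le_pow_right₀ (by linarith) (by norm_num)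
  have hb0 : (0 : ℝ) ≤ q ^ 4 := by positivity
  have hq0 : (0 : ℝ) < q := by linarith
  -- the set of nonzero vectors
  set U : Finset (W7 K) := Finset.univ.erase 0 with hU
  have hMU : ∀ u ∈ U, m u = M (Q u) := fun u hu => hM u (Finset.ne_of_mem_erase hu)
  -- levels
  have hlev : ∀ c : K, U.filter (fun u => Q u = c) = (Finset.univ.filter (fun u : W7 K => Q u = c)).erase 0 := by
    intro c
    ext u
    simp only [hU, Finset.mem_filter, Finset.mem_erase, Finset.mem_univ]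
    tauto
  have hN : ∀ c : K, q ^ 6 - (q - 1) * q ^ 3 - 1 ≤ ((U.filter (fun u => Q u = c)).card : ℝ) := by
    intro c
    have e1 := card_level_ge (Q := Q) hψ hQ c hb0 hb
    rw [hcardW, ← hq] at e1
    have e2 : ((Finset.univ.filter (fun u : W7 K => Q u = c)).card : ℝ) ≤ (U.filter (fun u => Q u = c)).card + 1 := by
      rw [hlev]
      have := Finset.pred_card_le_card_erase (s := Finset.univ.filter (fun u : W7 K => Q u = c)) (a := 0)
      have h3 : (Finset.univ.filter (fun u : W7 K => Q u = c)).card ≤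
          ((Finset.univ.filter (fun u : W7 K => Q u = c)).erase 0).card + 1 := by omega
      exact_mod_cast h3
    have e3 : q * (q ^ 6 - (q - 1) * q ^ 3) ≤ q * ((Finset.univ.filter (fun u : W7 K => Q u = c)).card : ℝ) := by
      refine le_trans (le_of_eq ?_) e1
      ring
    have e4 := le_of_mul_le_mul_left e3 hq0
    linarith
  have hT : ∀ c : K, ‖∑ u ∈ U with Q u = c, ψ (QuadraticMap.polar Q u v)‖ ≤ (q - 1) * q ^ 3 + 1 := by
    intro c
    have e1 := level_le (Q := Q) hψ hQ c hv hb0 hb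
    rw [← hq] at e1
    have e2 : q * ‖∑ u : W7 K with Q u = c, ψ (QuadraticMap.polar Q u v)‖ ≤ q * ((q - 1) * q ^ 3) := by
      refine e1.trans (le_of_eq ?_)
      ring
    have e3 := le_of_mul_le_mul_left e2 hq0
    rw [hlev]
    by_cases h0 : (0 : W7 K) ∈ Finset.univ.filter (fun u : W7 K => Q u = c)
    · have e4 := Finset.add_sum_erase (Finset.univ.filter (fun u : W7 K => Q u = c))
        (fun u => ψ (QuadraticMap.polar Q u v)) h0
      have e5 : ∑ u ∈ (Finset.univ.filter (fun u : W7 K => Q u = c)).erase 0, ψ (QuadraticMap.polar Q u v) =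
          (∑ u : W7 K with Q u = c, ψ (QuadraticMap.polar Q u v)) - ψ (QuadraticMap.polar Q 0 v) := by
        rw [← e4]
        ring
      rw [e5]
      refine (norm_sub_le _ _).trans ?_
      rw [norm_psi]
      linarith
    · rw [Finset.erase_eq_of_notMem h0]
      linarith
  -- the total
  have hd : (∑ u : W7 K, (m u : ℝ)) = m 0 + ∑ c : K, (M c : ℝ) * ((U.filter (fun u => Q u = c)).card : ℝ) := by
    rw [← Finset.add_sum_erase _ _ (Finset.mem_univ (0 : W7 K))]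
    congr 1
    have := split_sum (R := ℝ) U hMU (fun _ => 1)
    simp only [mul_one, Finset.sum_const, nsmul_eq_mul] at this
    exact this
  have hd1 : (m 0 : ℝ) + (q ^ 6 - (q - 1) * q ^ 3 - 1) * S ≤ ∑ u : W7 K, (m u : ℝ) := by
    rw [hd, hS, Finset.mul_sum]
    refine add_le_add le_rfl (Finset.sum_le_sum fun c _ => ?_)
    rw [mul_comm]
    exact mul_le_mul_of_nonneg_left (hN c) (hMn c)
  -- the fixed space of F
  have hf1 : (f : ℝ) ≤ m 0 + 2 * q ^ 3 * S := by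
    have e1 : f ≤ ∑ u : W7 K with (∀ j, u (.inr (.inr j)) = 0), m u := by
      rw [hf]
      refine Finset.sum_le_sum_of_subset fun u hu => ?_
      rw [Finset.mem_filter]
      exact ⟨Finset.mem_univ _, hD u hu⟩
    set P : Finset (W7 K) := Finset.univ.filter (fun u : W7 K => ∀ j, u (.inr (.inr j)) = 0) with hP
    have e2 : (0 : W7 K) ∈ P := by
      rw [hP, Finset.mem_filter]
      exact ⟨Finset.mem_univ _, fun j => rfl⟩
    have e3 : (∑ u ∈ P, (m u : ℝ)) = m 0 + ∑ u ∈ P.erase 0, (m u : ℝ) * 1 := by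
      rw [← Finset.add_sum_erase _ _ e2]
      simp only [mul_one]
    rw [split_sum (P.erase 0) (fun u hu => hM u (Finset.ne_of_mem_erase hu))] at e3
    have e4 : (f : ℝ) ≤ ∑ u ∈ P, (m u : ℝ) := by exact_mod_cast e1
    refine e4.trans ?_
    rw [e3, hS, Finset.mul_sum]
    refine add_le_add le_rfl (Finset.sum_le_sum fun c _ => ?_)
    rw [mul_comm]
    refine mul_le_mul_of_nonneg_right ?_ (hMn c)
    rw [Finset.sum_const, nsmul_eq_mul, mul_one]
    have e5 : ((P.erase 0).filter (fun u => Q u = c)).card ≤ 2 * Fintype.card K ^ 3 := by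
      refine le_trans (Finset.card_le_card ?_) (card_perp_le c)
      intro u hu
      simp only [hP, Finset.mem_filter, Finset.mem_erase, Finset.mem_univ, true_and] at hu ⊢
      exact ⟨hu.1.2, hu.2⟩
    rw [hq]
    exact_mod_cast e5
  -- the character value
  have hx : ‖∑ u : W7 K, (m u : ℂ) * ψ (QuadraticMap.polar Q u v)‖ ≤ m 0 + ((q - 1) * q ^ 3 + 1) * S := by
    rw [← Finset.add_sum_erase _ _ (Finset.mem_univ (0 : W7 K)), split_sum (Finset.univ.erase 0) hMU]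
    refine (norm_add_le _ _).trans (add_le_add ?_ ?_)
    · rw [norm_mul, norm_psi, mul_one, Complex.norm_natCast]
    · refine (norm_sum_le _ _).trans ?_
      rw [hS, Finset.mul_sum]
      refine Finset.sum_le_sum fun c _ => ?_
      rw [norm_mul, Complex.norm_natCast, mul_comm]
      exact mul_le_mul_of_nonneg_right (hT c) (hMn c)
  have hS0 : 0 ≤ S := Finset.sum_nonneg fun c _ => hMn c
  have h4' : 4 * (m 0 : ℝ) ≤ 3 * f := by exact_mod_cast h4
  have hm0 : (m 0 : ℝ) ≤ 6 * q ^ 3 * S := by linarith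
  have h27 : (27 : ℝ) ≤ q ^ 3 := by
    calc (27 : ℝ) = 3 ^ 3 := by norm_num
      _ ≤ q ^ 3 := pow_le_pow_left₀ (by norm_num) hq5 3
  have h9 : (9 : ℝ) ≤ q ^ 2 := by
    calc (9 : ℝ) = 3 ^ 2 := by norm_num
      _ ≤ q ^ 2 := pow_le_pow_left₀ (by norm_num) hq5 2
  have hNT : (q - 1) * q ^ 3 + 1 ≤ q ^ 6 - (q - 1) * q ^ 3 - 1 := by
    have e1 : (9 : ℝ) * q ≤ q ^ 3 := by nlinarith
    nlinarith
  set N : ℝ := q ^ 6 - (q - 1) * q ^ 3 - 1 with hNdef
  set T : ℝ := (q - 1) * q ^ 3 + 1 with hTdef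
  set D : ℝ := ∑ u : W7 K, (m u : ℝ) with hDdef
  have hNe : q ^ 6 - (q - 7) * q ^ 3 - 1 = N + 6 * q ^ 3 := by rw [hNdef]; ring
  have hTe : (q + 5) * q ^ 3 + 1 = T + 6 * q ^ 3 := by rw [hTdef]; ring
  have hT0 : 0 ≤ T := by
    rw [hTdef]
    nlinarith
  have hN0 : 0 ≤ N := hT0.trans hNT
  have h60 : 0 ≤ 6 * q ^ 3 := by positivity
  have hk : 0 ≤ (N - T) * (6 * q ^ 3 * S - m 0) := mul_nonneg (sub_nonneg.2 hNT) (sub_nonneg.2 hm0)
  rw [hNe, hTe]
  constructor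
  · calc _ ≤ (m 0 + T * S) * (N + 6 * q ^ 3) := mul_le_mul_of_nonneg_right hx (by linarith)
      _ ≤ (T + 6 * q ^ 3) * (m 0 + N * S) := by linarith
      _ ≤ (T + 6 * q ^ 3) * D := mul_le_mul_of_nonneg_left hd1 (by linarith)
  · calc (m 0 : ℝ) * (N + 6 * q ^ 3) ≤ 6 * q ^ 3 * (m 0 + N * S) := by
          have := mul_le_mul_of_nonneg_right hm0 hN0
          linarith
      _ ≤ 6 * q ^ 3 * D := mul_le_mul_of_nonneg_left hd1 h60

/-- the numerical core -/
theorem num_core (h2 : (2 : K) ≠ 0) (h5 : 5 ≤ Fintype.card K) (hψ : ψ.IsPrimitive) {m : W7 K → ℕ}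
    (htr : ∀ u v : W7 K, u ≠ 0 → v ≠ 0 → oddForm 3 K u = oddForm 3 K v → m u = m v) {f : ℕ}
    {D : Finset (W7 K)} (hD : ∀ u ∈ D, ∀ j, u (.inr (.inr j)) = 0) (hf : f = ∑ u ∈ D, m u)
    (h4 : 4 * m 0 ≤ 3 * f) {v : W7 K} (hv : v ≠ 0) :
    ‖∑ u : W7 K, (m u : ℂ) * ψ (QuadraticMap.polar (oddForm 3 K) u v)‖ ≤ 2 / 25 * ∑ u : W7 K, (m u : ℝ) := by
  have h := (num_core_gen h2 (by omega) hψ htr hD hf h4 hv).1
  exact five_aux (by exact_mod_cast h5) (norm_nonneg _) (Finset.sum_nonneg fun u _ => Nat.cast_nonneg _) h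

end Num

/-- **abstract ratio bound, general form** -/
theorem ratio_bound_gen {K : Type*} [Field K] [Finite K] (h2 : (2 : K) ≠ 0) (h5 : 3 ≤ Nat.card K) {G : Type*} [Group G]
    {e : Multiplicative (W7 K) →* G}
    (act : ∀ h ∈ E (oddForm 3 K), ∃ g : G, ∀ w : W7 K,
      g * e (Multiplicative.ofAdd w) * g⁻¹ = e (Multiplicative.ofAdd (h w)))
    {E1 E2 E3 : Subgroup G} {s1 n s3 c : G}
    (h1 : E1 = e.range.map (MulAut.conj s1).toMonoidHom) (hn : e.range = e.range.map (MulAut.conj n).toMonoidHom)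
    (hE2 : E2 = E1.map (MulAut.conj n).toMonoidHom) (hE3 : E3 = E1.map (MulAut.conj s3).toMonoidHom)
    (hF1 : ∀ w ∈ FF K, e (Multiplicative.ofAdd w) ∈ E1)
    (hc1 : ∀ w ∈ FF K, c * e (Multiplicative.ofAdd w) * c⁻¹ ∈ E1)
    (hc3 : ∀ w ∈ FF K, c * e (Multiplicative.ofAdd w) * c⁻¹ ∈ E3)
    (ht : e.range ⊔ E1 ⊔ E2 ⊔ E3 = ⊤) {d : ℕ} (ρ : Representation ℂ G (Fin d → ℂ)) (hirr : ρ.IsIrreducible)
    (hρ : ρ.character ≠ fun _ => 1) {w : W7 K} (hw : w ≠ 0) :
    ‖ρ.character (e (Multiplicative.ofAdd w))‖ *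
        ((Nat.card K : ℝ) ^ 6 - ((Nat.card K : ℝ) - 7) * (Nat.card K : ℝ) ^ 3 - 1) ≤
      (((Nat.card K : ℝ) + 5) * (Nat.card K : ℝ) ^ 3 + 1) * d ∧
    (cd ρ e.range : ℝ) * ((Nat.card K : ℝ) ^ 6 - ((Nat.card K : ℝ) - 7) * (Nat.card K : ℝ) ^ 3 - 1) ≤
      6 * (Nat.card K : ℝ) ^ 3 * d := by
  classical
  have : Fintype K := Fintype.ofFinite K
  rw [Nat.card_eq_fintype_card] at h5 ⊢
  obtain ⟨ψ, hψ1⟩ : ∃ ψ : AddChar K ℂ, ψ ≠ 1 := by
    obtain ⟨ψ, hψ⟩ := (AddChar.exists_apply_ne_zero (α := K)).2 (one_ne_zero)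
    refine ⟨ψ, fun h => hψ ?_⟩
    rw [h]
    rfl
  have hψ : ψ.IsPrimitive := AddChar.IsPrimitive.of_ne_one hψ1
  have hQ : Nondeg (oddForm 3 K) := nondeg_oddForm 3 K h2
  have hG : Good (oddForm 3 K) := good_of_finite hQ (by simp)
  have htr : ∀ u v : W7 K, u ≠ 0 → v ≠ 0 → oddForm 3 K u = oddForm 3 K v →
      mu ρ e ψ (oddForm 3 K) u = mu ρ e ψ (oddForm 3 K) v := by
    intro u v hu hv huv
    obtain ⟨g, hg, hgv⟩ := hG.trans_norm hu hv huv
    obtain ⟨x, hx⟩ := act g hg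
    rw [← hgv]
    exact (mu_inv ρ e (E_le_O hg) hx u).symm
  have h0 : cd ρ e.range = mu ρ e ψ (oddForm 3 K) 0 := by
    have e1 := cd_range ρ e
    have e2 := mu_eq ρ e ψ (Q := oddForm 3 K) 0
    have e3 : (Fintype.card (Multiplicative (W7 K)) : ℂ) = (Fintype.card (W7 K) : ℂ) := by
      rw [Fintype.card_multiplicative]
    rw [e3] at e1
    have e4 : ∑ h : Multiplicative (W7 K), ρ.character (e h) =
        ∑ w : W7 K, ρ.character (e (Multiplicative.ofAdd w)) :=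
      (Equiv.sum_comp Multiplicative.ofAdd (fun h : Multiplicative (W7 K) => ρ.character (e h))).symm
    rw [e4] at e1
    have e5 : (cd ρ e.range : ℂ) = mu ρ e ψ (oddForm 3 K) 0 := by
      rw [e1, e2]
      congr 1
      refine Finset.sum_congr rfl fun w _ => ?_
      rw [QuadraticMap.polar_zero_left, neg_zero, AddChar.map_zero_eq_one, one_mul]
    exact_mod_cast e5
  have hfd := four_le ρ (F0 := (eF e (FF K)).range) h1 hn hE2 hE3 (by
      rintro _ ⟨w, rfl⟩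
      exact ⟨_, rfl⟩) (by
      rintro _ ⟨w, rfl⟩
      exact hF1 _ w.toAdd.2) (c := c) (by
      rintro _ ⟨_, ⟨w, rfl⟩, rfl⟩
      exact hc1 _ w.toAdd.2) (by
      rintro _ ⟨_, ⟨w, rfl⟩, rfl⟩
      exact hc3 _ w.toAdd.2) ht (cd_top ρ hirr hρ)
  rw [h0] at hfd
  have hcore := num_core_gen h2 h5 hψ htr (D := Finset.univ.filter
      (fun u : W7 K => ∀ w ∈ FF K, QuadraticMap.polar (oddForm 3 K) u w = 0)) (by
      intro u hu
      rw [Finset.mem_filter] at hu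
      exact perp_FF hu.2) (cd_eF ρ e hψ hQ (FF K)) hfd hw
  rw [← chi_eq ρ e hψ hQ w] at hcore
  have e6 := deg_eq ρ e hψ hQ
  rw [Representation.char_one, Module.finrank_fintype_fun_eq_card, Fintype.card_fin] at e6
  have e7 : ((∑ u : W7 K, (mu ρ e ψ (oddForm 3 K) u : ℝ) : ℝ) : ℂ) = ((d : ℝ) : ℂ) := by
    push_cast
    exact e6.symm
  have e8 : (∑ u : W7 K, (mu ρ e ψ (oddForm 3 K) u : ℝ)) = (d : ℝ) := by exact_mod_cast e7
  rw [e8] at hcore
  rw [h0]
  exact hcore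

/-- **abstract ratio bound** -/
theorem ratio_bound {K : Type*} [Field K] [Finite K] (h2 : (2 : K) ≠ 0) (h5 : 5 ≤ Nat.card K) {G : Type*} [Group G]
    {e : Multiplicative (W7 K) →* G}
    (act : ∀ h ∈ E (oddForm 3 K), ∃ g : G, ∀ w : W7 K,
      g * e (Multiplicative.ofAdd w) * g⁻¹ = e (Multiplicative.ofAdd (h w)))
    {E1 E2 E3 : Subgroup G} {s1 n s3 c : G}
    (h1 : E1 = e.range.map (MulAut.conj s1).toMonoidHom) (hn : e.range = e.range.map (MulAut.conj n).toMonoidHom)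
    (hE2 : E2 = E1.map (MulAut.conj n).toMonoidHom) (hE3 : E3 = E1.map (MulAut.conj s3).toMonoidHom)
    (hF1 : ∀ w ∈ FF K, e (Multiplicative.ofAdd w) ∈ E1)
    (hc1 : ∀ w ∈ FF K, c * e (Multiplicative.ofAdd w) * c⁻¹ ∈ E1)
    (hc3 : ∀ w ∈ FF K, c * e (Multiplicative.ofAdd w) * c⁻¹ ∈ E3)
    (ht : e.range ⊔ E1 ⊔ E2 ⊔ E3 = ⊤) {d : ℕ} (ρ : Representation ℂ G (Fin d → ℂ)) (hirr : ρ.IsIrreducible)
    (hρ : ρ.character ≠ fun _ => 1) {w : W7 K} (hw : w ≠ 0) :
    ‖ρ.character (e (Multiplicative.ofAdd w))‖ ≤ 2 / 25 * d := by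
  refine five_aux (by exact_mod_cast h5) (norm_nonneg _) (Nat.cast_nonneg _)
    (ratio_bound_gen h2 (by omega) act h1 hn hE2 hE3 hF1 hc1 hc3 ht ρ hirr hρ hw).1

end Cfsg.Agent.H572.FR
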